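import Cfsg.Agent.TwoCore.Spec

/-!
An equivariant balanced functor on the involutions of a group with a four-connected Sylow two-subgroup `S`: its
closure `cl` on `S` and the normalizer of the closure (`notes/two_gen_core_v3.md`, the part on the whole group).
-/

set_option autoImplicit false
set_option linter.unusedSectionVars false
set_option linter.style.haveILetI false

namespace Cfsg.Lib.TwoCore

open Subgroup Cfsg.Lib.InvolCalc Cfsg.Lib.Misc.FourConnected Cfsg.Lib.BenderSE.FourConn Cfsg.Lib.Sft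

universe u

variable {G : Type u} [Group G]

/-- an equivariant balanced functor on involutions, of odd values -/
structure Fun (θ : G → Subgroup G) : Prop where
  le : ∀ a, orderOf a = 2 → θ a ≤ centralizer ({a} : Set G)
  odd : ∀ a, orderOf a = 2 → Odd (Nat.card (θ a))
  equiv : ∀ a g, orderOf a = 2 → θ (g * a * g⁻¹) = (θ a).map (MulAut.conj g).toMonoidHom
  bal : ∀ a b, orderOf a = 2 → orderOf b = 2 → Commute a b → θ a ⊓ centralizer ({b} : Set G) ≤ θ b

/-- the closure of the functor on the Sylow subgroup -/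
def cl (θ : G → Subgroup G) (S : Sylow 2 G) : Subgroup G :=
  ⨆ e : {e : G // e ∈ (S : Subgroup G) ∧ orderOf e = 2}, θ e.1

/-- the hypothesis on the bad central involutions -/
def Sep (θ : G → Subgroup G) (S : Sylow 2 G) : Prop :=
  ∀ z t : G, Central S z → Central S t → t ≠ z → ¬ centralizer ({z} : Set G) ≤ normalizer (cl θ S : Set G) →
    ∀ D : Subgroup G, D ≤ centralizer ({z} : Set G) → Odd (Nat.card D) →
      (S : Subgroup G) ≤ normalizer (D : Set G) → ∀ d ∈ D, d * t * d⁻¹ * t⁻¹ ∈ θ z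

variable [Finite G] {θ : G → Subgroup G} {S : Sylow 2 G}

theorem le_cl {e : G} (he : e ∈ (S : Subgroup G)) (he2 : orderOf e = 2) : θ e ≤ cl θ S :=
  le_iSup (fun e : {e : G // e ∈ (S : Subgroup G) ∧ orderOf e = 2} => θ e.1) ⟨e, he, he2⟩

theorem orderOf_klein {V : Subgroup G} (hV : IsKleinFour V) {x : G} (hx : x ∈ V) (h1 : x ≠ 1) :
    orderOf x = 2 :=
  haveI := hV
  order_two_of_mul_self (sq_of_klein hx) h1

theorem exists_conj_sylow (S : Sylow 2 G) {V : Subgroup G} (hV : IsPGroup 2 V) :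
    ∃ g : G, V.map (MulAut.conj g).toMonoidHom ≤ (S : Subgroup G) := by
  obtain ⟨g, -, hg⟩ := Cfsg.Lib.ZStarApps.exists_conj_mem_sylow S (H := ⊤) le_top hV le_top
  exact ⟨g, by rintro _ ⟨x, hx, rfl⟩; exact hg x hx⟩

section Closure

variable (h : Fun θ)

include h

theorem Fun.functor_hyp : ∀ a : G, RankThree 2 a →
    θ a ≤ centralizer ({a} : Set G) ∧ ¬ 2 ∣ Nat.card (θ a) ∧ Group.IsSolvable (θ a) := fun a ha =>
  ⟨h.le a ha.1, (h.odd a ha.1).not_two_dvd_nat, Cfsg.Agent.PF.isSolvable_of_odd _ (h.odd a ha.1)⟩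

theorem Fun.functor {A : Subgroup G} (hA : Cfsg.IsElementaryAbelian 2 A) (hA8 : 8 ≤ Nat.card A) :
    Cfsg.IsSolvableSignalizerFunctor 2 A θ :=
  haveI : Fact (Nat.Prime 2) := ⟨Nat.prime_two⟩
  functor_of_equivariant h.functor_hyp (fun a g ha => h.equiv a g ha.1)
    (fun a b ha hb hab => h.bal a b ha.1 hb.1 hab) hA hA8

theorem Fun.closure_eight {A E : Subgroup G} (hA : Cfsg.IsElementaryAbelian 2 A) (hA8 : 8 ≤ Nat.card A)
    (hEA : E ≤ A) (hE4 : 4 ≤ Nat.card E) : closureOf θ E = closureOf θ A :=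
  haveI : Fact (Nat.Prime 2) := ⟨Nat.prime_two⟩
  closureOf_eq h.functor_hyp (fun a g ha => h.equiv a g ha.1)
    (fun a b ha hb hab => h.bal a b ha.1 hb.1 hab) hA hA8 hEA hE4

theorem Fun.closure_step {U V : Subgroup G} (hAdj : Adj U V) : closureOf θ U = closureOf θ V := by
  obtain ⟨hU, hV, hc⟩ := hAdj
  haveI : Fact (Nat.Prime 2) := ⟨Nat.prime_two⟩
  have hA := elementary_sup (p := 2) (elementary_of_klein hU) (elementary_of_klein hV) hc
  by_cases h8 : 8 ≤ Nat.card ↥(U ⊔ V)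
  · rw [h.closure_eight hA h8 le_sup_left (card_klein hU).ge, h.closure_eight hA h8 le_sup_right (card_klein hV).ge]
  · obtain ⟨k, hk⟩ := IsPGroup.iff_card.1 (isPGroup_elementary hA)
    have hk2 : k ≤ 2 := by
      by_contra hk'
      exact h8 ((show (8 : ℕ) = 2 ^ 3 by norm_num).le.trans (hk ▸ Nat.pow_le_pow_right two_pos (by omega)))
    have h4 : Nat.card ↥(U ⊔ V) ≤ 4 := by rw [hk]; exact (Nat.pow_le_pow_right two_pos hk2).trans (by norm_num)
    rw [(eq_of_le_of_card_ge le_sup_left (h4.trans (card_klein hU).ge) : U = U ⊔ V).trans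
      (eq_of_le_of_card_ge le_sup_right (h4.trans (card_klein hV).ge) : V = U ⊔ V).symm]

variable (hS : Cfsg.IsFourConnected (S : Subgroup G)) (h3 : ¬ Cfsg.PRankLE 2 2 G)

include hS h3

/-- every four-group of `S` has the whole closure -/
theorem Fun.closure_klein {V : Subgroup G} (hV : IsKleinFour V) (hVS : V ≤ (S : Subgroup G)) :
    closureOf θ V = cl θ S := by
  refine le_antisymm (iSup_le fun e => le_cl (hVS e.2.1) (orderOf_klein hV e.2.1 e.2.2)) (iSup_le fun e => ?_)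
  obtain ⟨W, hW, hWS, heW⟩ := exists_klein_at h3 S e.2.2 e.2.1
  have hch := chain_base S hS hV hW hVS hWS
  have hle : θ e.1 ≤ closureOf θ W := le_iSup (fun e : {e : G // e ∈ W ∧ e ≠ 1} => θ e.1)
    ⟨e.1, heW, Cfsg.Lib.InvolCalc.ne_one_of_order_two e.2.2⟩
  refine hle.trans (le_of_eq ?_)
  clear hle heW hWS hW
  induction hch with
  | refl => rfl
  | tail _ hstep ih => rw [← ih, h.closure_step hstep]

/-- an elementary subgroup of order eight at an involution of `S` gives a member containing the closure -/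
theorem Fun.exists_member_at {e : G} (he : e ∈ (S : Subgroup G)) (he2 : orderOf e = 2) :
    ∃ X : Subgroup G, Odd (Nat.card X) ∧ cl θ S ≤ X ∧ X ⊓ centralizer ({e} : Set G) ≤ θ e := by
  haveI : Fact (Nat.Prime 2) := ⟨Nat.prime_two⟩
  obtain ⟨V, hV, hVS, heV⟩ := exists_klein_at h3 S he2 he
  obtain ⟨A, hA, hA8, hVA, -⟩ := exists_eight_above S hS h3 S hV hVS
  obtain ⟨X, hX, hle⟩ := exists_member hA hA8 (h.functor hA hA8)
  refine ⟨X, Nat.not_even_iff_odd.mp fun hev => hX.2.1 (even_iff_two_dvd.1 hev), ?_,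
    hX.2.2.2 e (hVA heV) (Cfsg.Lib.InvolCalc.ne_one_of_order_two he2)⟩
  rw [← h.closure_klein hS h3 hV hVS]
  exact iSup_le fun x => hle x.1 (hVA x.2.1) x.2.2

theorem Fun.odd_cl : Odd (Nat.card (cl θ S)) := by
  obtain ⟨V, hV, hVS⟩ := exists_base S h3
  haveI := hV
  obtain ⟨x, hx, hx1⟩ : ∃ x ∈ V, x ≠ 1 := by
    by_contra hcon
    push Not at hcon
    have h4 := card_klein hV
    rw [(Subgroup.eq_bot_iff_forall V).2 hcon, card_bot] at h4
    omega
  obtain ⟨X, hX, hle, -⟩ := h.exists_member_at hS h3 (hVS hx) (orderOf_klein hV hx hx1)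
  exact hX.of_dvd_nat (card_dvd_of_le hle)

theorem Fun.cl_inf {e : G} (he : e ∈ (S : Subgroup G)) (he2 : orderOf e = 2) :
    cl θ S ⊓ centralizer ({e} : Set G) ≤ θ e := by
  obtain ⟨X, -, hle, hX⟩ := h.exists_member_at hS h3 he he2
  exact (inf_le_inf_right _ hle).trans hX

/-- the normalizer of the closure controls the four-groups of `S` -/
theorem Fun.mem_of_klein {V : Subgroup G} (hV : IsKleinFour V) (hVS : V ≤ (S : Subgroup G)) {g : G}
    (hg : V.map (MulAut.conj g).toMonoidHom ≤ (S : Subgroup G)) : g ∈ normalizer (cl θ S : Set G) := by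
  refine Cfsg.Lib.ZStarApps.mem_normalizer_of_maps fun a ha => ?_
  rw [← h.closure_klein hS h3 (klein_conj g hV) hg]
  rw [← h.closure_klein hS h3 hV hVS] at ha
  have hle : (closureOf θ V).map (MulAut.conj g).toMonoidHom ≤
      closureOf θ (V.map (MulAut.conj g).toMonoidHom) := by
    rw [closureOf, Subgroup.map_iSup]
    refine iSup_le fun e => ?_
    rw [← h.equiv e.1 g (orderOf_klein hV e.2.1 e.2.2)]
    exact le_iSup (fun x : {x : G // x ∈ V.map (MulAut.conj g).toMonoidHom ∧ x ≠ 1} => θ x.1)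
      ⟨g * e.1 * g⁻¹, ⟨e.1, e.2.1, rfl⟩, fun hc => e.2.2 (by simpa using hc)⟩
  exact hle ⟨a, ha, rfl⟩

theorem Fun.sylow_le : (S : Subgroup G) ≤ normalizer (cl θ S : Set G) := by
  intro s hs
  obtain ⟨V, hV, hVS⟩ := exists_base S h3
  refine h.mem_of_klein hS h3 hV hVS ?_
  rintro _ ⟨x, hx, rfl⟩
  exact mul_mem (mul_mem hs (hVS hx)) (inv_mem hs)

theorem Fun.fuse (V : Subgroup G) (hV : IsKleinFour V) (hVM : V ≤ normalizer (cl θ S : Set G)) (g : G)
    (hg : V.map (MulAut.conj g).toMonoidHom ≤ normalizer (cl θ S : Set G)) :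
    g ∈ normalizer (cl θ S : Set G) := by
  have hM := h.sylow_le hS h3
  obtain ⟨m₁, hm₁, h1⟩ := Cfsg.Lib.ZStarApps.exists_conj_mem_sylow S hM
    (isPGroup_elementary (elementary_of_klein hV)) hVM
  obtain ⟨m₂, hm₂, h2⟩ := Cfsg.Lib.ZStarApps.exists_conj_mem_sylow S hM
    (isPGroup_elementary (elementary_of_klein (klein_conj g hV))) hg
  have key := h.mem_of_klein hS h3 (klein_conj m₁ hV) (by rintro _ ⟨x, hx, rfl⟩; exact h1 x hx)
    (g := m₂ * g * m₁⁻¹) (by
      rintro _ ⟨_, ⟨x, hx, rfl⟩, rfl⟩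
      show m₂ * g * m₁⁻¹ * (m₁ * x * m₁⁻¹) * (m₂ * g * m₁⁻¹)⁻¹ ∈ (S : Subgroup G)
      rw [show m₂ * g * m₁⁻¹ * (m₁ * x * m₁⁻¹) * (m₂ * g * m₁⁻¹)⁻¹ = m₂ * (g * x * g⁻¹) * m₂⁻¹ by group]
      exact h2 _ ⟨x, hx, rfl⟩)
  rw [show g = m₂⁻¹ * (m₂ * g * m₁⁻¹) * m₁ by group]
  exact mul_mem (mul_mem (inv_mem hm₂) key) hm₁

theorem Fun.mem_of_centralizes {V : Subgroup G} (hV : IsKleinFour V)
    (hVM : V ≤ normalizer (cl θ S : Set G)) {x : G} (hx : ∀ v ∈ V, Commute x v) :
    x ∈ normalizer (cl θ S : Set G) := by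
  refine h.fuse hS h3 V hV hVM x ?_
  rintro _ ⟨v, hv, rfl⟩
  show x * v * x⁻¹ ∈ _
  rw [(hx v hv).eq, mul_inv_cancel_right]
  exact hVM hv

/-- an odd subgroup normalized by an elementary subgroup of order eight of the normalizer lies in it -/
theorem Fun.odd_le {A X : Subgroup G} (hA : Cfsg.IsElementaryAbelian 2 A) (hA8 : 8 ≤ Nat.card A)
    (hAM : A ≤ normalizer (cl θ S : Set G)) (hX : Odd (Nat.card X)) (hAX : A ≤ normalizer (X : Set G)) :
    X ≤ normalizer (cl θ S : Set G) := by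
  haveI : Fact (Nat.Prime 2) := ⟨Nat.prime_two⟩
  rw [Cfsg.Agent.S1324.result 2 A X hA ((by norm_num : 2 ^ 2 ≤ 8).trans hA8) hX.not_two_dvd_nat hAX]
  refine iSup_le fun B x hx => ?_
  obtain ⟨hxX, hxB⟩ := mem_inf.1 hx
  have hBc : 4 ≤ Nat.card (B : Subgroup G) := by
    have h1 := Subgroup.relIndex_mul_relIndex ⊥ (B : Subgroup G) A bot_le B.2.1
    simp only [relIndex_bot_left] at h1
    have := Nat.mul_le_mul_left (Nat.card (B : Subgroup G)) B.2.2
    omega
  obtain ⟨W, hW, hWB⟩ := exists_klein_of_card (H := (B : Subgroup G))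
    (fun y hy => by rw [← pow_two]; exact hA.2 y (B.2.1 hy))
    (fun y hy w hw => congrArg Subtype.val
      (haveI := hA.1; mul_comm' (⟨y, B.2.1 hy⟩ : A) ⟨w, B.2.1 hw⟩))
    (by omega)
  exact h.mem_of_centralizes hS h3 hW (hWB.trans (B.2.1.trans hAM))
    (fun v hv => ((mem_centralizer_iff.1 hxB) v (hWB hv)).symm)

theorem Fun.odd_le_sylow {X : Subgroup G} (hX : Odd (Nat.card X))
    (hSX : (S : Subgroup G) ≤ normalizer (X : Set G)) : X ≤ normalizer (cl θ S : Set G) := by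
  obtain ⟨E, hES, hE, hE8⟩ := exists_eight S h3
  exact h.odd_le hS h3 hE hE8 (hES.trans (h.sylow_le hS h3)) hX (hES.trans hSX)

/-- the setup of the local part -/
theorem Fun.setup (hne : normalizer (cl θ S : Set G) ≠ ⊤) : Setup (normalizer (cl θ S : Set G)) S := by
  refine ⟨h.sylow_le hS h3, hne, h.fuse hS h3, h3, fun a ha ha2 => ?_⟩
  haveI : Fact (Nat.Prime 2) := ⟨Nat.prime_two⟩
  set M := normalizer (cl θ S : Set G)
  obtain ⟨m, hm, hmS⟩ := Cfsg.Lib.ZStarApps.exists_conj_mem_sylow S (h.sylow_le hS h3)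
    (IsPGroup.of_card (n := 1) (by rw [pow_one, Nat.card_zpowers, ha2]) : IsPGroup 2 (zpowers a))
    (zpowers_le.2 ha)
  set b := m * a * m⁻¹
  have hbS : b ∈ (S : Subgroup G) := hmS a (mem_zpowers a)
  have hb2 : orderOf b = 2 := by
    rw [show b = MulAut.conj m a from rfl, MulEquiv.orderOf_eq, ha2]
  obtain ⟨V, hV, hVS, hbV⟩ := exists_klein_at h3 S hb2 hbS
  obtain ⟨A, hA, hA8, hVA, -⟩ := exists_eight_above S hS h3 S hV hVS
  haveI := hA.1
  have hcomm : ∀ x ∈ A, ∀ y ∈ A, Commute x y := fun x hx y hy =>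
    congrArg Subtype.val (mul_comm' (⟨x, hx⟩ : A) ⟨y, hy⟩)
  have hAM : A ≤ M := fun x hx => h.mem_of_centralizes hS h3 hV (hVS.trans (h.sylow_le hS h3))
    fun v hv => hcomm x hx v (hVA hv)
  have key : Cfsg.centralizerPPrimeCore 2 b ≤ M := h.odd_le hS h3 hA hA8 hAM oddCore_core
    ((show A ≤ centralizer ({b} : Set G) from fun x hx =>
      mem_centralizer_singleton_iff.2 (hcomm x hx b (hVA hbV)).eq).trans
        (Cfsg.Lib.Components.centralizer_le_normalizer_centralizerPPrimeCore b))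
  intro x hx
  have h1 : m * x * m⁻¹ ∈ Cfsg.centralizerPPrimeCore 2 b := by
    rw [show b = MulAut.conj m a from rfl, ← Cfsg.Lib.Components.centralizerPPrimeCore_map_equiv (MulAut.conj m) a]
    exact ⟨x, hx, rfl⟩
  rw [show x = m⁻¹ * (m * x * m⁻¹) * m by group]
  exact mul_mem (mul_mem (inv_mem hm) (key h1)) hm

theorem Fun.exists_conj_mem {a : G} (ha : orderOf a = 2) :
    ∃ g : G, g * a * g⁻¹ ∈ (S : Subgroup G) := by
  haveI : Fact (Nat.Prime 2) := ⟨Nat.prime_two⟩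
  obtain ⟨g, hg⟩ := exists_conj_sylow S
    (IsPGroup.of_card (n := 1) (by rw [pow_one, Nat.card_zpowers, ha]) : IsPGroup 2 (zpowers a))
  exact ⟨g, hg ⟨a, mem_zpowers a, rfl⟩⟩

/-- a trivial closure kills the functor -/
theorem Fun.eq_bot (hcl : cl θ S = ⊥) {a : G} (ha : orderOf a = 2) : θ a = ⊥ := by
  obtain ⟨g, hg⟩ := h.exists_conj_mem hS h3 ha
  have h1 : θ (g * a * g⁻¹) = ⊥ := eq_bot_iff.2 (hcl ▸ le_cl hg ((Cfsg.Lib.BenderSE.orderOf_conj' g a).trans ha))
  rw [h.equiv a g ha] at h1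
  exact (Subgroup.map_eq_bot_iff_of_injective _ (MulAut.conj g).injective).1 h1

/-- a normal closure is trivial in a core-free group -/
theorem Fun.cl_eq_bot_of_normal (hO : Cfsg.oddCore G = ⊥) (hn : normalizer (cl θ S : Set G) = ⊤) :
    cl θ S = ⊥ := by
  haveI : (cl θ S).Normal := normalizer_eq_top_iff.1 hn
  exact le_bot_iff.1 (hO ▸ Cfsg.Lib.Components.le_pPrimeCore (Nat.coprime_two_right.2 (h.odd_cl hS h3)))

/-- a central involution makes the closure normal -/
theorem Fun.normalizer_eq_top_of_center {c : G} (hc : orderOf c = 2) (hcz : c ∈ center G) :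
    normalizer (cl θ S : Set G) = ⊤ := by
  have hcS : c ∈ (S : Subgroup G) := by
    obtain ⟨g, hg⟩ := h.exists_conj_mem hS h3 hc
    rwa [mem_center_iff.1 hcz g, mul_inv_cancel_right] at hg
  have heq : cl θ S = θ c := le_antisymm ((le_inf le_rfl fun x _ =>
    mem_centralizer_singleton_iff.2 (mem_center_iff.1 hcz x)).trans (h.cl_inf hS h3 hcS hc)) (le_cl hcS hc)
  refine (Subgroup.eq_top_iff' _).2 fun g => Cfsg.Lib.ZStarApps.mem_normalizer_of_maps fun x hx => ?_
  rw [heq] at hx ⊢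
  have h1 := h.equiv c g hc
  rw [mem_center_iff.1 hcz g, mul_inv_cancel_right] at h1
  rw [h1]
  exact ⟨x, hx, rfl⟩

end Closure

end Cfsg.Lib.TwoCore
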