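import Cfsg.Agent.TwoCore.Global.Functor
import Cfsg.Agent.Components.PComponents
import Cfsg.Agent.Coprime.Generation

/-!
The induction: the functor on `K / O(K)` for a subgroup `K` containing `S` (`notes/two_gen_core_v3.md`).
-/

set_option autoImplicit false
set_option linter.unusedSectionVars false
set_option linter.style.haveILetI false

namespace Cfsg.Lib.TwoCore

open Subgroup Cfsg.Lib.InvolCalc Cfsg.Lib.Misc.FourConnected Cfsg.Lib.BenderSE.FourConn

universe u

/-- the statement proved by induction -/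
def Trivial (G : Type u) [Group G] : Prop :=
  ∀ (θ : G → Subgroup G) (S : Sylow 2 G), Cfsg.IsFourConnected (S : Subgroup G) → ¬ Cfsg.PRankLE 2 2 G →
    Cfsg.oddCore G = ⊥ → Fun θ → Sep θ S → ∀ a, orderOf a = 2 → θ a = ⊥

variable {G : Type u} [Group G]

theorem connected_of_equiv {A B : Type u} [Group A] [Group B] (e : A ≃* B) (h : Cfsg.IsFourConnected A) :
    Cfsg.IsFourConnected B := by
  intro U V hU hV
  have h1 : Relation.ReflTransGen Adj (U.map e.symm.toMonoidHom) (V.map e.symm.toMonoidHom) :=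
    h _ _ (klein_map e.symm.injective hU) (klein_map e.symm.injective hV)
  have h2 := chain_map (f := e.toMonoidHom) e.injective h1
  rwa [map_map, map_map, show e.toMonoidHom.comp e.symm.toMonoidHom = MonoidHom.id B from
    MonoidHom.ext e.apply_symm_apply, Subgroup.map_id, Subgroup.map_id] at h2

variable [Finite G]

section Quot

variable (K : Subgroup G)

/-- the core of `K` -/
local notation "O" => Cfsg.pPrimeCore 2 K
local notation "π" => QuotientGroup.mk' (Cfsg.pPrimeCore 2 K)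

/-- the functor on the quotient -/
def qFun (θ : G → Subgroup G) (x : K ⧸ O) : Subgroup (K ⧸ O) :=
  ⨆ a : {a : K // orderOf a = 2 ∧ π a = x}, ((θ (a.1 : G)).subgroupOf K).map π

variable {K} {θ : G → Subgroup G}

theorem proj_eq_one {a : K} : π a = 1 ↔ a ∈ O := QuotientGroup.eq_one_iff a

theorem two_kill {a : K} (ha : ∃ k : ℕ, a ^ 2 ^ k = 1) (h : π a = 1) : a = 1 := by
  obtain ⟨k, hk⟩ := ha
  exact orderOf_eq_one_iff.1 (Nat.eq_one_of_dvd_coprimes
    ((Nat.coprime_two_left.2 (Cfsg.Lib.ZStarApps.odd_card_pPrimeCore (G := K))).pow_left k)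
    (orderOf_dvd_of_pow_eq_one hk) (orderOf_dvd_natCard _ (proj_eq_one.1 h)))

theorem inj_of_two {P : Subgroup K} (hP : IsPGroup 2 P) {a b : K} (ha : a ∈ P) (hb : b ∈ P) (h : π a = π b) :
    a = b := by
  have h1 : (a⁻¹ * b) = 1 := by
    refine two_kill ?_ (by rw [map_mul, map_inv, h, inv_mul_cancel])
    obtain ⟨k, hk⟩ := hP ⟨a⁻¹ * b, mul_mem (inv_mem ha) hb⟩
    exact ⟨k, congrArg Subtype.val hk⟩
  exact inv_mul_eq_one.1 h1

theorem proj_two {a : K} (ha : orderOf a = 2) : orderOf (π a) = 2 :=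
  order_two_of_mul_self (by rw [← map_mul, sq_of_order_two ha, map_one]) fun h =>
    ne_one_of_order_two ha (two_kill ⟨1, by rw [pow_one, ← ha, pow_orderOf_eq_one]⟩ h)

theorem exists_lift {x : K ⧸ O} (hx : orderOf x = 2) : ∃ a : K, orderOf a = 2 ∧ π a = x := by
  obtain ⟨y, rfl⟩ := QuotientGroup.mk'_surjective O x
  obtain ⟨e, m, hm, he⟩ := Nat.exists_eq_two_pow_mul_odd (orderOf_pos y).ne'
  have htwo : ∃ k : ℕ, (y ^ m) ^ 2 ^ k = 1 := ⟨e, by rw [← pow_mul, mul_comm, ← he, pow_orderOf_eq_one]⟩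
  have hy : π (y ^ m) = π y := by
    obtain ⟨j, rfl⟩ := hm
    rw [map_pow, pow_succ, pow_mul, pow_two, sq_of_order_two hx, one_pow, one_mul]
  refine ⟨y ^ m, order_two_of_mul_self (two_kill ?_ ?_) ?_, hy⟩
  · obtain ⟨k, hk⟩ := htwo
    exact ⟨k, by rw [← pow_two, ← pow_mul, mul_comm, pow_mul, hk, one_pow]⟩
  · rw [map_mul, hy, sq_of_order_two hx]
  · intro h
    rw [h, map_one] at hy
    exact ne_one_of_order_two hx hy.symm

theorem exists_conj_lift {a b : K} (ha : orderOf a = 2) (hb : orderOf b = 2) (h : π a = π b) :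
    ∃ o ∈ O, o * a * o⁻¹ = b := by
  have hab : a * b ∈ O := proj_eq_one.1 (by rw [map_mul, ← h, ← map_mul, sq_of_order_two ha, map_one])
  obtain ⟨k, hk⟩ : Odd (orderOf (a * b)) :=
    (Cfsg.Lib.ZStarApps.odd_card_pPrimeCore (G := K)).of_dvd_nat (orderOf_dvd_natCard _ hab)
  refine ⟨(a * b) ^ (k : ℤ), zpow_mem hab _, ?_⟩
  rw [conj_rot ha hb]
  conv_rhs => rw [snd_eq' ha hb]
  congr 1
  rw [← mul_inv_eq_one, ← zpow_neg, ← zpow_add, show (2 * (k : ℤ) + - -1) = ((orderOf (a * b) : ℕ) : ℤ) by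
    rw [hk]; push_cast; ring, zpow_natCast, pow_orderOf_eq_one]

/-- elements centralizing the image of an element, lifted by coprime action -/
theorem exists_fixed {z : G} (hzK : z ∈ K) (hz : ∃ k : ℕ, z ^ 2 ^ k = 1) {Y : Subgroup G} (hYK : Y ≤ K)
    (hzY : zpowers z ≤ normalizer (Y : Set G)) {y : K} (hy : (y : G) ∈ Y) (hc : Commute (π y) (π ⟨z, hzK⟩)) :
    ∃ w : K, (w : G) ∈ Y ∧ Commute (w : G) z ∧ π w = π y := by
  set N := (O).map K.subtype ⊓ Y with hN
  have hzN : zpowers z ≤ normalizer (N : Set G) := by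
    refine Cfsg.Lib.Coprime.le_normalizer_inf (fun a ha => ?_) hzY
    refine Cfsg.Lib.ZStarApps.mem_normalizer_of_maps ?_
    rintro _ ⟨o, ho, rfl⟩
    have haK : a ∈ K := (zpowers_le.2 hzK) ha
    exact ⟨⟨a, haK⟩ * o * ⟨a, haK⟩⁻¹, Normal.conj_mem inferInstance o ho _, rfl⟩
  have hNo : Odd (Nat.card N) := (Cfsg.Lib.ZStarApps.odd_card_pPrimeCore (G := K)).of_dvd_nat
    ((card_dvd_of_le inf_le_left).trans (card_map_dvd _ _))
  have hcop : (Nat.card (zpowers z)).Coprime (Nat.card N) := by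
    obtain ⟨k, hk⟩ := hz
    rw [Nat.card_zpowers]
    exact ((Nat.coprime_two_left.2 hNo).pow_left k).coprime_dvd_left (orderOf_dvd_of_pow_eq_one hk)
  obtain ⟨n, hn, hnc⟩ := Cfsg.Lib.Coprime.exists_fixed_in_coset hzN hcop
    (Or.inr (Cfsg.Agent.PF.isSolvable_of_odd _ hNo)) (k := (y : G)) (by
      intro a ha
      have haK : a ∈ K := (zpowers_le.2 hzK) ha
      refine mem_inf.2 ⟨⟨y⁻¹ * ⟨a, haK⟩ * y * ⟨a, haK⟩⁻¹, proj_eq_one.1 ?_, rfl⟩, ?_⟩
      · obtain ⟨i, rfl⟩ := ha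
        rw [show (⟨z ^ i, haK⟩ : K) = ⟨z, hzK⟩ ^ i from Subtype.ext rfl]
        simp only [map_mul, map_inv, map_zpow]
        rw [mul_assoc (π y)⁻¹, ← (hc.zpow_right i).eq, ← mul_assoc, inv_mul_cancel, one_mul, mul_inv_cancel]
      · rw [show (y : G)⁻¹ * a * y * a⁻¹ = (y : G)⁻¹ * (a * y * a⁻¹) by group]
        exact mul_mem (inv_mem hy) ((mem_normalizer_iff.1 (hzY ha) _).1 hy))
  obtain ⟨hnO, hnY⟩ := mem_inf.1 hn
  obtain ⟨o, ho, hoe⟩ := hnO
  refine ⟨y * o, ?_, ?_, by rw [map_mul, proj_eq_one.2 ho, mul_one]⟩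
  · show (y : G) * (o : G) ∈ Y
    exact mul_mem hy ((show (o : G) = n from hoe).symm ▸ hnY)
  · show Commute ((y : G) * (o : G)) z
    rw [show (o : G) = n from hoe]
    exact (mem_centralizer_iff.1 hnc z (mem_zpowers z)).symm

section WithFun

variable (h : Fun θ)

include h

theorem Fun.conj_mem_coe {a : G} (ha : orderOf a = 2) (g : G) {x : G} (hx : x ∈ θ a) :
    g * x * g⁻¹ ∈ θ (g * a * g⁻¹) := by
  rw [h.equiv a g ha]; exact ⟨x, hx, rfl⟩

theorem Fun.zpowers_le_normalizer {a b : G} (ha : orderOf a = 2) (hab : Commute b a) :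
    zpowers b ≤ normalizer (θ a : Set G) := by
  refine zpowers_le.2 (Cfsg.Lib.ZStarApps.mem_normalizer_of_maps fun x hx => ?_)
  have h1 := h.conj_mem_coe ha b hx
  rwa [hab.eq, mul_inv_cancel_right] at h1

theorem Fun.image_mono {a b : K} (ha : orderOf a = 2) (hb : orderOf b = 2) (hab : π a = π b) :
    ((θ (a : G)).subgroupOf K).map π ≤ ((θ (b : G)).subgroupOf K).map π := by
  obtain ⟨o, ho, rfl⟩ := exists_conj_lift ha hb hab
  rintro _ ⟨x, hx, rfl⟩
  refine ⟨o * x * o⁻¹, ?_, by rw [map_mul, map_mul, map_inv, proj_eq_one.2 ho, inv_one, one_mul, mul_one]⟩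
  exact h.conj_mem_coe (by rw [Subgroup.orderOf_coe, ha]) (o : G) hx

theorem Fun.qFun_eq {a : K} (ha : orderOf a = 2) :
    qFun K θ (π a) = ((θ (a : G)).subgroupOf K).map π :=
  le_antisymm (iSup_le fun b => h.image_mono b.2.1 ha b.2.2)
    (le_iSup (fun b : {b : K // orderOf b = 2 ∧ π b = π a} => ((θ (b.1 : G)).subgroupOf K).map π) ⟨a, ha, rfl⟩)

theorem Fun.quot {S : Sylow 2 G} (hSK : (S : Subgroup G) ≤ K) : Fun (qFun K θ) where
  le := by
    intro x hx
    obtain ⟨a, ha, rfl⟩ := exists_lift hx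
    rw [h.qFun_eq ha]
    rintro _ ⟨y, hy, rfl⟩
    refine mem_centralizer_singleton_iff.2 ?_
    rw [← map_mul, ← map_mul]
    exact congrArg π (Subtype.ext (mem_centralizer_singleton_iff.1
      (h.le _ (by rw [Subgroup.orderOf_coe, ha]) (mem_subgroupOf.1 hy))))
  odd := by
    intro x hx
    obtain ⟨a, ha, rfl⟩ := exists_lift hx
    rw [h.qFun_eq ha]
    refine (h.odd (a : G) (by rw [Subgroup.orderOf_coe, ha])).of_dvd_nat ?_
    refine (card_map_dvd _ _).trans ?_
    rw [← card_map_of_injective K.subtype_injective, subgroupOf_map_subtype]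
    exact card_dvd_of_le inf_le_left
  equiv := by
    intro x g hx
    obtain ⟨a, ha, rfl⟩ := exists_lift hx
    obtain ⟨k, rfl⟩ := QuotientGroup.mk'_surjective O g
    have ha' : orderOf (k * a * k⁻¹) = 2 := by
      rw [Cfsg.Lib.BenderSE.orderOf_conj', ha]
    rw [← map_inv, ← map_mul, ← map_mul, h.qFun_eq ha', h.qFun_eq ha]
    refine le_antisymm ?_ ?_
    · rintro _ ⟨y, hy, rfl⟩
      refine ⟨π (k⁻¹ * y * k), mem_map_of_mem _ ?_, by simp [mul_assoc]⟩
      have h1 := h.conj_mem_coe (by rw [Subgroup.orderOf_coe, ha']) (k : G)⁻¹ (mem_subgroupOf.1 hy)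
      rw [mem_subgroupOf]
      simpa [mul_assoc] using h1
    · rintro _ ⟨_, ⟨y, hy, rfl⟩, rfl⟩
      refine ⟨k * y * k⁻¹, ?_, by simp⟩
      exact h.conj_mem_coe (by rw [Subgroup.orderOf_coe, ha]) (k : G) (mem_subgroupOf.1 hy)
  bal := by
    intro x y hx hy hxy
    haveI : Fact (Nat.Prime 2) := ⟨Nat.prime_two⟩
    set P := (S.subtype hSK).mapSurjective (QuotientGroup.mk'_surjective O) with hP
    have hpair : IsPGroup 2 ↥(zpowers x ⊔ zpowers y) := by
      refine IsPGroup.to_sup_of_normal_left' (IsPGroup.of_card (n := 1) (by rw [pow_one, Nat.card_zpowers, hx]))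
        (IsPGroup.of_card (n := 1) (by rw [pow_one, Nat.card_zpowers, hy]))
        (zpowers_le.2 (Cfsg.Lib.ZStarApps.mem_normalizer_of_maps fun a ha => ?_))
      obtain ⟨i, rfl⟩ := ha
      rw [(hxy.symm.zpow_right i).eq, mul_inv_cancel_right]
      exact ⟨i, rfl⟩
    obtain ⟨g, -, hg⟩ := Cfsg.Lib.ZStarApps.exists_conj_mem_sylow P (H := ⊤) le_top hpair le_top
    obtain ⟨k, rfl⟩ := QuotientGroup.mk'_surjective O g
    obtain ⟨a₀, ha₀, hae⟩ := hg x (mem_sup_left (mem_zpowers x))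
    obtain ⟨b₀, hb₀, hbe⟩ := hg y (mem_sup_right (mem_zpowers y))
    set a := k⁻¹ * a₀ * k with ha'
    set b := k⁻¹ * b₀ * k with hb'
    have hax : π a = x := by simp [a, map_mul, hae, mul_assoc]
    have hby : π b = y := by simp [b, map_mul, hbe, mul_assoc]
    have hab : Commute a b := by
      have h0 : a₀ * b₀ = b₀ * a₀ := by
        refine inj_of_two (S.subtype hSK).2 (mul_mem ha₀ hb₀) (mul_mem hb₀ ha₀) ?_
        rw [map_mul, map_mul, hae, hbe]
        exact ((hxy.map (MulAut.conj (π k)).toMonoidHom)).eq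
      have h1 := (show Commute a₀ b₀ from h0).map (MulAut.conj k⁻¹).toMonoidHom
      simpa [a, b, mul_assoc] using h1
    have htwo : ∀ c ∈ (S.subtype hSK : Subgroup K), orderOf (π (k⁻¹ * c * k)) = 2 →
        orderOf (k⁻¹ * c * k) = 2 := by
      intro c hc hc2
      refine order_two_of_mul_self (two_kill ?_ ?_) fun e => ne_one_of_order_two hc2 (by rw [e, map_one])
      · obtain ⟨j, hj⟩ := (S.subtype hSK).2 ⟨c * c, mul_mem hc hc⟩
        refine ⟨j, ?_⟩
        rw [show k⁻¹ * c * k * (k⁻¹ * c * k) = k⁻¹ * (c * c) * k⁻¹⁻¹ by group, conj_pow,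
          show (c * c) ^ 2 ^ j = 1 from congrArg Subtype.val hj]
        group
      · rw [map_mul, sq_of_order_two hc2]
    have ha2 : orderOf a = 2 := htwo a₀ ha₀ (by rw [hax, hx])
    have hb2 : orderOf b = 2 := htwo b₀ hb₀ (by rw [hby, hy])
    rw [← hax, ← hby, h.qFun_eq ha2, h.qFun_eq hb2]
    rintro w ⟨⟨v, hv, rfl⟩, hvc⟩
    have habG : Commute (b : G) (a : G) := (congrArg Subtype.val hab.eq).symm
    obtain ⟨v', hv', hvb, hve⟩ := exists_fixed (z := (b : G)) b.2
      ⟨1, by rw [pow_one, ← hb2, ← Subgroup.orderOf_coe, pow_orderOf_eq_one]⟩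
      (Y := θ (a : G) ⊓ K) inf_le_right
      (Cfsg.Lib.Coprime.le_normalizer_inf
        (h.zpowers_le_normalizer (by rw [Subgroup.orderOf_coe, ha2]) habG)
        ((zpowers_le.2 b.2).trans le_normalizer))
      (y := v) (mem_inf.2 ⟨mem_subgroupOf.1 hv, v.2⟩) (mem_centralizer_singleton_iff.1 hvc)
    refine ⟨v', ?_, hve⟩
    exact h.bal _ _ (by rw [Subgroup.orderOf_coe, ha2]) (by rw [Subgroup.orderOf_coe, hb2]) habG.symm
      (mem_inf.2 ⟨(mem_inf.1 hv').1, mem_centralizer_singleton_iff.2 hvb.eq⟩)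

variable {S : Sylow 2 G} (hS : Cfsg.IsFourConnected (S : Subgroup G)) (h3 : ¬ Cfsg.PRankLE 2 2 G)

include hS h3

/-- the closure meets `K` in the core of `K` -/
theorem Fun.inf_le_core (hSep : Sep θ S) (hSK : (S : Subgroup G) ≤ K) (IH : Trivial (K ⧸ O)) :
    cl θ S ⊓ K ≤ (O).map K.subtype := by
  haveI : Fact (Nat.Prime 2) := ⟨Nat.prime_two⟩
  set W := cl θ S with hW
  set S' := (S.subtype hSK).mapSurjective (QuotientGroup.mk'_surjective O) with hS'def
  have hinj : Function.Injective ((π).subgroupMap (S.subtype hSK : Subgroup K)) := fun a b hab =>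
    Subtype.ext (inj_of_two (S.subtype hSK).2 a.2 b.2 (congrArg Subtype.val hab))
  have hS' : Cfsg.IsFourConnected (S' : Subgroup (K ⧸ O)) :=
    connected_of_equiv ((subgroupOfEquivOfLe hSK).symm.trans
      (MulEquiv.ofBijective _ ⟨hinj, (π).subgroupMap_surjective _⟩)) hS
  have h3' : ¬ Cfsg.PRankLE 2 2 (K ⧸ O) := by
    intro hle
    obtain ⟨E, hES, hE, hE8⟩ := exists_eight S h3
    haveI := hE.1
    set E' := (E.subgroupOf K).map π with hE'
    have h1 : Nat.card E' = Nat.card E := by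
      rw [← Nat.card_congr (subgroupOfEquivOfLe (hES.trans hSK)).toEquiv]
      refine (Nat.card_congr (Equiv.ofBijective ((π).subgroupMap (E.subgroupOf K))
        ⟨fun a b hab => ?_, (π).subgroupMap_surjective _⟩)).symm
      exact Subtype.ext (inj_of_two (S.subtype hSK).2 (show (a : K) ∈ _ from hES a.2)
        (show (b : K) ∈ _ from hES b.2) (congrArg Subtype.val hab))
    have h4 := hle E' ⟨⟨fun a b => by
      obtain ⟨_, x, hx, rfl⟩ := a
      obtain ⟨_, y, hy, rfl⟩ := b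
      refine Subtype.ext ?_
      show π x * π y = π y * π x
      rw [← map_mul, ← map_mul]
      exact congrArg π (Subtype.ext (show (x : G) * y = y * x from
        congrArg Subtype.val (mul_comm' (⟨(x : G), hx⟩ : E) ⟨(y : G), hy⟩)))⟩⟩ (by
      rintro _ ⟨x, hx, rfl⟩
      rw [← map_pow, show x ^ 2 = 1 from Subtype.ext (hE.2 x hx), map_one])
    rw [h1] at h4
    omega
  have hF := h.quot hSK
  -- the closure of the quotient
  set W' := cl (qFun K θ) S' with hW'
  have hmem : ∀ {e : G}, orderOf e = 2 → e ∈ (S : Subgroup G) → ∀ x : K, (x : G) ∈ θ e → π x ∈ W' := by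
    intro e he heS x hx
    set e' : K := ⟨e, hSK heS⟩
    have he' : orderOf e' = 2 := by rw [Subgroup.orderOf_mk, he]
    refine le_cl (θ := qFun K θ) (S := S') (e := π e') ⟨e', heS, rfl⟩ (proj_two he') ?_
    rw [h.qFun_eq he']
    exact mem_map_of_mem _ hx
  have hWK : ∀ x : K, (x : G) ∈ W → π x ∈ W' := by
    obtain ⟨V, hV, hVS⟩ := exists_base S h3
    have hcy : ¬ IsCyclic V := haveI := hV; IsKleinFour.not_isCyclic
    haveI : IsMulCommutative V := (elementary_of_klein hV).1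
    intro x hx
    have key : W ⊓ K ≤ (W'.comap π).map K.subtype := by
      rw [← Cfsg.Lib.Coprime.centralizerJoin_eq hcy (K := W ⊓ K)
        (Cfsg.Lib.Coprime.le_normalizer_inf (hVS.trans (h.sylow_le hS h3))
          ((hVS.trans hSK).trans le_normalizer))
        (by rw [card_klein hV, show (4 : ℕ) = 2 ^ 2 by norm_num]
            exact (Nat.coprime_two_left.2 ((h.odd_cl hS h3).of_dvd_nat (card_dvd_of_le inf_le_left))).pow_left 2)]
      refine iSup₂_le fun e he y hy => ?_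
      obtain ⟨hy1, hy2⟩ := mem_inf.1 hy
      obtain ⟨hyW, hyK⟩ := mem_inf.1 hy1
      have he2 : orderOf e = 2 := orderOf_klein hV he.1 he.2
      exact ⟨⟨y, hyK⟩, hmem he2 (hVS he.1) _ (h.cl_inf hS h3 (hVS he.1) he2 (mem_inf.2 ⟨hyW, hy2⟩)), rfl⟩
    obtain ⟨x', hx', e⟩ := key (mem_inf.2 ⟨hx, x.2⟩)
    rwa [show x' = x from Subtype.ext e] at hx'
  have hW'le : W' ≤ (W.subgroupOf K).map π := by
    refine iSup_le fun e => ?_
    obtain ⟨s, hs, hse⟩ := e.2.1
    have hs2 : orderOf s = 2 := by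
      refine order_two_of_mul_self (inj_of_two (S.subtype hSK).2 (mul_mem hs hs) (one_mem _) ?_)
        fun h1 => ne_one_of_order_two e.2.2 (by rw [← hse, h1, map_one])
      rw [map_mul, hse, sq_of_order_two e.2.2, map_one]
    rw [← hse, h.qFun_eq hs2]
    exact map_mono fun x hx => le_cl (θ := θ) hs ((Subgroup.orderOf_coe s).trans hs2) hx
  have hSep' : Sep (qFun K θ) S' := by
    intro x y hx hy hne hbad D hD hDodd hDn d hd
    have hlift : ∀ {v : K ⧸ O}, Central S' v → ∃ s : K, Central S (s : G) ∧ π s = v := by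
      rintro v ⟨⟨s, hs, hse⟩, hv2, hvc⟩
      refine ⟨s, ⟨hs, ?_, fun r hr => ?_⟩, hse⟩
      · rw [Subgroup.orderOf_coe]
        refine order_two_of_mul_self (inj_of_two (S.subtype hSK).2 (mul_mem hs hs) (one_mem _) ?_)
          fun h1 => ne_one_of_order_two hv2 (by rw [← hse, h1, map_one])
        rw [map_mul, hse, sq_of_order_two hv2, map_one]
      · refine congrArg Subtype.val (inj_of_two (S.subtype hSK).2 (a := ⟨r, hSK hr⟩ * s) (b := s * ⟨r, hSK hr⟩)
          (mul_mem hr hs) (mul_mem hs hr) ?_)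
        rw [map_mul, map_mul, hse]
        exact (hvc _ ⟨⟨r, hSK hr⟩, hr, rfl⟩).eq
    obtain ⟨z, hz, rfl⟩ := hlift hx
    obtain ⟨t, ht, rfl⟩ := hlift hy
    have hzS : ∀ {s : G}, s ∈ (S : Subgroup G) → Commute s (z : G) := fun hs => hz.2.2 _ hs
    have hbadG : ¬ centralizer ({(z : G)} : Set G) ≤ normalizer (W : Set G) := by
      intro hgood
      refine hbad fun c hc => ?_
      obtain ⟨c₀, rfl⟩ := QuotientGroup.mk'_surjective O c
      obtain ⟨c₁, -, hc1, hce⟩ := exists_fixed (z := (z : G)) z.2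
        ⟨1, by rw [pow_one, ← hz.2.1, pow_orderOf_eq_one]⟩
        (Y := K) le_rfl ((zpowers_le.2 z.2).trans le_normalizer) (y := c₀) c₀.2
        (mem_centralizer_singleton_iff.1 hc)
      rw [← hce]
      refine Cfsg.Lib.ZStarApps.mem_normalizer_of_maps fun w hw => ?_
      obtain ⟨v, hv, rfl⟩ := hW'le hw
      rw [← map_inv, ← map_mul, ← map_mul]
      refine hWK _ ?_
      exact (mem_normalizer_iff.1 (hgood (mem_centralizer_singleton_iff.2 hc1.eq)) (v : G)).1 hv
    -- the preimage of `D`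
    set P := (D.comap π).map K.subtype with hP
    set D₁ := P ⊓ centralizer ({(z : G)} : Set G) with hD₁
    have hSP : (S : Subgroup G) ≤ normalizer (P : Set G) := fun s hs =>
      Cfsg.Lib.ZStarApps.mem_normalizer_of_maps (by
        rintro _ ⟨v, hv, rfl⟩
        refine ⟨⟨s, hSK hs⟩ * v * ⟨s, hSK hs⟩⁻¹, ?_, rfl⟩
        show π _ ∈ D
        rw [map_mul, map_mul, map_inv]
        exact (mem_normalizer_iff.1 (hDn (show π ⟨s, hSK hs⟩ ∈ _ from mem_map_of_mem _ hs)) _).1 hv)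
    have hSz : (S : Subgroup G) ≤ normalizer ((centralizer ({(z : G)} : Set G) : Subgroup G) : Set G) :=
      fun s hs => le_normalizer (mem_centralizer_singleton_iff.2 (hzS hs).eq)
    have hodd₁ : Odd (Nat.card D₁) := by
      refine ((Cfsg.Lib.ZStarApps.odd_card_pPrimeCore (G := K)).mul hDodd).of_dvd_nat
        ((card_dvd_of_le inf_le_left).trans ?_)
      rw [hP, card_map_of_injective K.subtype_injective]
      exact dvd_of_eq (QuotientGroup.card_preimage_mk O D)
    obtain ⟨d₀, rfl⟩ := QuotientGroup.mk'_surjective O d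
    obtain ⟨d₁, hd1, hdc, hde⟩ := exists_fixed (z := (z : G)) z.2
      ⟨1, by rw [pow_one, ← hz.2.1, pow_orderOf_eq_one]⟩
      (Y := P) (map_subtype_le _) (zpowers_le.2 (hSP hz.1)) (y := d₀) ⟨d₀, hd, rfl⟩
      (mem_centralizer_singleton_iff.1 (hD hd))
    have hne' : (t : G) ≠ (z : G) := fun e => hne (congrArg π (Subtype.ext e))
    have key := hSep (z : G) (t : G) hz ht hne' hbadG D₁ inf_le_right hodd₁
      (Cfsg.Lib.Coprime.le_normalizer_inf hSP hSz) (d₁ : G)
      (mem_inf.2 ⟨hd1, mem_centralizer_singleton_iff.2 hdc.eq⟩)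
    have hz2 : orderOf z = 2 := by rw [← Subgroup.orderOf_coe]; exact hz.2.1
    rw [h.qFun_eq hz2, ← hde, ← map_inv, ← map_inv, ← map_mul, ← map_mul, ← map_mul]
    exact mem_map_of_mem _ key
  have hbot := IH (qFun K θ) S' hS' h3' Cfsg.Lib.Components.pPrimeCore_quotient_eq_bot hF hSep'
  intro x hx
  obtain ⟨hxW, hxK⟩ := mem_inf.1 hx
  refine ⟨⟨x, hxK⟩, ?_, rfl⟩
  have h1 : π ⟨x, hxK⟩ ∈ W' := hWK _ hxW
  have h2 : W' = ⊥ := eq_bot_iff.2 (iSup_le fun e => (hbot e.1 e.2.2).le)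
  rw [h2, mem_bot] at h1
  exact proj_eq_one.1 h1

end WithFun

end Quot

end Cfsg.Lib.TwoCore
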